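import Groth.Agent.EtCodim.Ring
import Mathlib

/-!
# Étaleness of morphisms of smooth schemes is detected in codimension one
-/

set_option autoImplicit false
set_option linter.style.haveILetI false
set_option backward.isDefEq.respectTransparency false
set_option backward.isDefEq.respectTransparency.types false

universe u

open CategoryTheory AlgebraicGeometry TopologicalSpace

noncomputable section

namespace Groth.Agent.EtCodim

/-- A morphism of smooth schemes over a locally Noetherian base is étale if it is étale in codimension one. -/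
theorem etale_of_codim_one {X Y S : Scheme.{u}} (f : X ⟶ Y) (q : Y ⟶ S) [Smooth q] [Smooth (f ≫ q)]
    [IsLocallyNoetherian S] (O : X.Opens) [Etale (O.ι ≫ f)]
    (h : ∀ x : X, x ∉ O → (2 : WithBot ℕ∞) ≤ ringKrullDim (X.presheaf.stalk x)) : Etale f := by
  haveI : IsLocallyNoetherian X := LocallyOfFiniteType.isLocallyNoetherian (f ≫ q)
  rw [HasRingHomProperty.iff_exists_appLE (P := @Etale) (RingHom.Etale.stableUnderComposition.stableUnderCompositionWithLocalizationAway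
    (RingHom.Etale.propertyIsLocal.HoldsForLocalizationAway RingHom.Etale.containsIdentities)).1]
  intro x
  obtain ⟨V, hV, hxV, -⟩ := exists_isAffineOpen_mem_and_subset (X := S) (U := ⊤) (x := q (f x)) trivial
  obtain ⟨U, hU, hxU, hUV⟩ := exists_isAffineOpen_mem_and_subset (X := Y) (U := q ⁻¹ᵁ V) (x := f x) hxV
  obtain ⟨W, hW, hxW, hWU⟩ := exists_isAffineOpen_mem_and_subset (X := X) (U := f ⁻¹ᵁ U) (x := x) hxU
  have e : W ≤ (f ≫ q) ⁻¹ᵁ V := fun z hz => hUV (hWU hz)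
  refine ⟨⟨U, hU⟩, ⟨W, hW⟩, hxW, hWU, ?_⟩
  letI : Algebra Γ(S, V) Γ(Y, U) := (q.appLE V U hUV).hom.toAlgebra
  letI : Algebra Γ(Y, U) Γ(X, W) := (f.appLE U W hWU).hom.toAlgebra
  letI : Algebra Γ(S, V) Γ(X, W) := ((f ≫ q).appLE V W e).hom.toAlgebra
  haveI : IsScalarTower Γ(S, V) Γ(Y, U) Γ(X, W) := IsScalarTower.of_algebraMap_eq' (by
    simp only [RingHom.algebraMap_toAlgebra, ← CommRingCat.hom_comp, Scheme.Hom.appLE_comp_appLE])
  haveI : Algebra.Smooth Γ(S, V) Γ(Y, U) :=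
    HasRingHomProperty.appLE (P := @Smooth) q inferInstance ⟨V, hV⟩ ⟨U, hU⟩ hUV
  haveI : Algebra.Smooth Γ(S, V) Γ(X, W) :=
    HasRingHomProperty.appLE (P := @Smooth) (f ≫ q) inferInstance ⟨V, hV⟩ ⟨W, hW⟩ e
  haveI : IsNoetherianRing Γ(X, W) := IsLocallyNoetherian.component_noetherian ⟨W, hW⟩
  haveI : Algebra.FinitePresentation Γ(Y, U) Γ(X, W) :=
    Algebra.FinitePresentation.of_restrict_scalars_finitePresentation Γ(S, V) Γ(Y, U) Γ(X, W)
  change (algebraMap Γ(Y, U) Γ(X, W)).Etale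
  refine RingHom.etale_algebraMap.2 (Algebra.etaleLocus_eq_univ_iff_etale.1 (Set.eq_univ_of_forall fun P => ?_))
  refine isEtaleAt_of_codim_one (A := Γ(S, V)) (B := Γ(Y, U)) (C := Γ(X, W)) P.asIdeal fun p hp _ hht => ?_
  let p' : PrimeSpectrum Γ(X, W) := ⟨p, hp⟩
  let y : X := hW.fromSpec p'
  have hyW : y ∈ W := hW.range_fromSpec.le ⟨p', rfl⟩
  have hprime : hW.primeIdealOf ⟨y, hyW⟩ = p' := hW.fromSpec.isOpenEmbedding.injective (hW.fromSpec_primeIdealOf _)
  have hyO : y ∈ O := by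
    by_contra hy
    have h2 := h y hy
    letI := X.presheaf.algebra_section_stalk ⟨y, hyW⟩
    haveI := hW.isLocalization_stalk ⟨y, hyW⟩
    rw [IsLocalization.AtPrime.ringKrullDim_eq_height (hW.primeIdealOf ⟨y, hyW⟩).asIdeal, hprime] at h2
    have : (2 : WithBot ℕ∞) ≤ ((1 : ℕ∞) : WithBot ℕ∞) := h2.trans (WithBot.coe_le_coe.2 hht)
    exact absurd this (by decide)
  obtain ⟨r, hr, hyr⟩ := hW.exists_basicOpen_le ⟨y, hyO⟩ hyW
  let Wr : X.affineOpens := ⟨X.basicOpen r, hW.basicOpen r⟩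
  have hle : Wr.1 ≤ f ⁻¹ᵁ U := (X.basicOpen_le r).trans hWU
  have hO : (f.appLE U Wr.1 hle).hom.Etale := by
    have hi : O.ι ⁻¹ᵁ Wr.1 ≤ (O.ι ≫ f) ⁻¹ᵁ U := fun z hz => hle hz
    have haff : IsAffineOpen (O.ι ⁻¹ᵁ Wr.1) := (hW.basicOpen r).preimage_of_isOpenImmersion O.ι (by
      rw [Scheme.Opens.opensRange_ι]; exact hr)
    have hE := HasRingHomProperty.appLE (P := @Etale) (O.ι ≫ f) inferInstance ⟨U, hU⟩ ⟨_, haff⟩ hi
    rw [← Scheme.Hom.appLE_comp_appLE O.ι f U Wr.1 _ hle le_rfl, CommRingCat.hom_comp] at hE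
    haveI : IsIso (O.ι.appLE Wr.1 (O.ι ⁻¹ᵁ Wr.1) le_rfl) := by
      rw [← Scheme.Hom.app_eq_appLE]
      exact Scheme.Hom.isIso_app O.ι Wr.1 (by rw [Scheme.Opens.opensRange_ι]; exact hr)
    exact (RingHom.Etale.respectsIso.cancel_right_isIso (f.appLE U Wr.1 hle)
      (O.ι.appLE Wr.1 (O.ι ⁻¹ᵁ Wr.1) le_rfl)).1 hE
  letI : Algebra Γ(Y, U) Γ(X, X.basicOpen r) := (f.appLE U _ hle).hom.toAlgebra
  haveI := hW.isLocalization_basicOpen r
  haveI : IsScalarTower Γ(Y, U) Γ(X, W) Γ(X, X.basicOpen r) := IsScalarTower.of_algebraMap_eq' (by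
    show (f.appLE U _ hle).hom = (X.presheaf.map (homOfLE (X.basicOpen_le r)).op).hom.comp (f.appLE U W hWU).hom
    rw [← CommRingCat.hom_comp, Scheme.Hom.appLE_map])
  haveI : Algebra.Etale Γ(Y, U) Γ(X, X.basicOpen r) := RingHom.etale_algebraMap.1 hO
  have hEt : Algebra.Etale Γ(Y, U) (Localization.Away r) := Algebra.Etale.of_equiv
    ((IsLocalization.algEquiv (Submonoid.powers r) Γ(X, X.basicOpen r) (Localization.Away r)).restrictScalars Γ(Y, U))
  have hmem : p' ∈ PrimeSpectrum.basicOpen r := by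
    rw [← hW.fromSpec_preimage_basicOpen]
    exact hyr
  exact Algebra.basicOpen_subset_etaleLocus_iff_etale.2 hEt hmem

end Groth.Agent.EtCodim

end
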