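import Groth.Agent.S2789
import Mathlib

/-!
# Étaleness of maps of smooth algebras is detected in codimension one
-/

set_option autoImplicit false
set_option linter.style.haveILetI false
set_option backward.isDefEq.respectTransparency false

universe u

open TensorProduct

namespace Groth.Agent.EtCodim

/-- A map of finite free modules over a Noetherian local ring which becomes bijective in codimension one is bijective. -/
theorem bijective_of_codim_one {R M N : Type u} [CommRing R] [IsLocalRing R] [IsNoetherianRing R]
    [AddCommGroup M] [Module R M] [Module.Free R M] [Module.Finite R M]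
    [AddCommGroup N] [Module R N] [Module.Free R N] [Module.Finite R N] (ψ : M →ₗ[R] N)
    (h : ∀ P : Ideal R, P.IsPrime → P.height ≤ 1 → ∃ (R' : Type u) (_ : CommRing R') (_ : Algebra R R')
      (P' : Ideal R'), P'.IsPrime ∧ P'.comap (algebraMap R R') = P ∧ Function.Bijective (ψ.baseChange R')) :
    Function.Bijective ψ := by
  have hrk : Module.finrank R N = Module.finrank R M := by
    obtain ⟨P, hP⟩ := (⊥ : Ideal R).nonempty_minimalPrimes bot_ne_top
    haveI := hP.isPrime
    have h0 : P.height ≤ 1 := by
      rw [Ideal.height_eq_zero_iff.2 hP]; exact zero_le_one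
    obtain ⟨R', _, _, P', hP', -, hb⟩ := h P hP.isPrime h0
    haveI : Nontrivial R' := nontrivial_of_ne 0 1 fun e => hP'.ne_top ((Ideal.eq_top_iff_one P').2 (e ▸ P'.zero_mem))
    have := (LinearEquiv.ofBijective _ hb).finrank_eq
    rwa [Module.finrank_baseChange, Module.finrank_baseChange, eq_comm] at this
  obtain ⟨e⟩ : Nonempty (N ≃ₗ[R] M) := FiniteDimensional.nonempty_linearEquiv_of_finrank_eq hrk
  suffices hd : IsUnit (LinearMap.det (e.toLinearMap ∘ₗ ψ)) by
    have hu := ((Module.End.isUnit_iff _).1 ((LinearMap.isUnit_iff_isUnit_det _).2 hd))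
    exact (Function.Bijective.of_comp_iff' e.bijective ψ).1 hu
  by_contra hd
  obtain ⟨P, hP⟩ := (Ideal.span {LinearMap.det (e.toLinearMap ∘ₗ ψ)}).nonempty_minimalPrimes
    (fun e' => hd (Ideal.span_singleton_eq_top.1 e'))
  haveI := hP.isPrime
  obtain ⟨R', _, _, P', hP', hPP, hb⟩ := h P hP.isPrime (Ideal.height_le_one_of_isPrincipal_of_mem_minimalPrimes _ P hP)
  have hu : IsUnit (LinearMap.det ((e.toLinearMap ∘ₗ ψ).baseChange R')) := by
    refine (LinearMap.isUnit_iff_isUnit_det _).1 ((Module.End.isUnit_iff _).2 ?_)
    rw [LinearMap.baseChange_comp]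
    exact (e.baseChange R R' N M).bijective.comp hb
  rw [LinearMap.det_baseChange] at hu
  refine hP'.ne_top (Ideal.eq_top_of_isUnit_mem _ ?_ hu)
  rw [← Ideal.mem_comap, hPP]
  exact hP.1.2 (Ideal.subset_span rfl)

/-- A map of smooth algebras is étale at a prime if it is so at its generalisations of height at most one. -/
theorem isEtaleAt_of_codim_one {A B C : Type u} [CommRing A] [CommRing B] [CommRing C]
    [Algebra A B] [Algebra B C] [Algebra A C] [IsScalarTower A B C] [Algebra.Smooth A B] [Algebra.Smooth A C]
    [IsNoetherianRing C] (q : Ideal C) [q.IsPrime]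
    (h : ∀ (p : Ideal C) [p.IsPrime], p ≤ q → p.height ≤ 1 → Algebra.IsEtaleAt B p) : Algebra.IsEtaleAt B q := by
  let R := Localization.AtPrime q
  haveI : Algebra.FormallyEtale C R := Algebra.FormallyEtale.of_isLocalization q.primeCompl
  haveI : Algebra.FormallySmooth A R := Algebra.FormallySmooth.comp A C R
  haveI : Algebra.EssFiniteType A R := Algebra.EssFiniteType.comp A C R
  haveI : IsNoetherianRing R := IsLocalization.isNoetherianRing q.primeCompl R inferInstance
  have hsm : Algebra.IsSmoothAt A q := inferInstanceAs (Algebra.FormallySmooth A R)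
  haveI : Module.Free R (R ⊗[B] Ω[B⁄A]) := Module.free_of_flat_of_isLocalRing
  haveI : Module.Free R Ω[R⁄A] := Module.free_of_flat_of_isLocalRing
  refine ((S2789.result A B C q).2 ⟨hsm, bijective_of_codim_one (KaehlerDifferential.mapBaseChange A B R) fun P hP hP1 => ?_⟩).1
  let p := P.comap (algebraMap C R)
  haveI : p.IsPrime := hP.comap _
  have hpq : p ≤ q := by
    rw [← Localization.AtPrime.comap_maximalIdeal (I := q)]
    exact Ideal.comap_mono (IsLocalRing.le_maximalIdeal hP.ne_top)
  have hht : p.height ≤ 1 := by
    rw [show p = P.under C from rfl, IsLocalization.height_under q.primeCompl P]; exact hP1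
  let R' := Localization.AtPrime p
  have hle : q.primeCompl ≤ p.primeCompl := fun x hx hxp => hx (hpq hxp)
  letI : Algebra R R' := IsLocalization.localizationAlgebraOfSubmonoidLe R R' q.primeCompl p.primeCompl hle
  haveI : IsScalarTower C R R' := IsLocalization.localization_isScalarTower_of_submonoid_le R R' q.primeCompl p.primeCompl hle
  haveI : IsScalarTower B R R' := IsScalarTower.of_algebraMap_eq fun b => by
    rw [IsScalarTower.algebraMap_apply B C R, ← IsScalarTower.algebraMap_apply C R R',
      ← IsScalarTower.algebraMap_apply B C R']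
  haveI : IsScalarTower A R R' := IsScalarTower.of_algebraMap_eq fun b => by
    rw [IsScalarTower.algebraMap_apply A C R, ← IsScalarTower.algebraMap_apply C R R',
      ← IsScalarTower.algebraMap_apply A C R']
  haveI : IsLocalization (p.primeCompl.map (algebraMap C R)) R' :=
    IsLocalization.isLocalization_of_submonoid_le R R' q.primeCompl p.primeCompl hle
  haveI : Algebra.FormallyEtale R R' := Algebra.FormallyEtale.of_isLocalization (p.primeCompl.map (algebraMap C R))
  haveI : Algebra.FormallyEtale B R' := h p hpq hht
  refine ⟨R', inferInstance, inferInstance, IsLocalRing.maximalIdeal R', inferInstance, ?_, ?_⟩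
  · have e1 : ((IsLocalRing.maximalIdeal R').comap (algebraMap R R')).comap (algebraMap C R) = p := by
      rw [Ideal.comap_comap, ← IsScalarTower.algebraMap_eq C R R']
      exact IsLocalization.AtPrime.under_maximalIdeal R' p
    have := congrArg (Ideal.map (algebraMap C R)) e1
    rw [show ∀ J : Ideal R, (J.comap (algebraMap C R)).map (algebraMap C R) = J from
      fun J => IsLocalization.map_comap q.primeCompl R J] at this
    exact this.trans (IsLocalization.map_comap q.primeCompl R P)
  · let ψ := KaehlerDifferential.mapBaseChange A B R
    let E₁ := TensorProduct.AlgebraTensorModule.cancelBaseChange B R R' R' Ω[B⁄A]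
    let E₂ := KaehlerDifferential.tensorKaehlerEquivOfFormallyEtale A R R'
    let E₃ := KaehlerDifferential.tensorKaehlerEquivOfFormallyEtale A B R'
    have key : E₂.toLinearMap ∘ₗ ψ.baseChange R' = E₃.toLinearMap ∘ₗ E₁.toLinearMap := by
      refine TensorProduct.AlgebraTensorModule.ext fun x y => ?_
      induction y with
      | zero => simp
      | add a b ha hb => simp only [TensorProduct.tmul_add, map_add, ha, hb]
      | tmul r w =>
        simp only [E₁, E₂, E₃, ψ, LinearMap.comp_apply, LinearMap.baseChange_tmul, LinearEquiv.coe_coe,
          TensorProduct.AlgebraTensorModule.cancelBaseChange_tmul,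
          KaehlerDifferential.tensorKaehlerEquivOfFormallyEtale_apply, KaehlerDifferential.mapBaseChange_tmul,
          map_smul]
        rw [smul_assoc, smul_comm]
        congr 2
        have hw : w ∈ Submodule.span B (Set.range (KaehlerDifferential.D A B)) := by
          rw [KaehlerDifferential.span_range_derivation]; trivial
        induction hw using Submodule.span_induction with
        | mem z hz => obtain ⟨b, rfl⟩ := hz; simp [← IsScalarTower.algebraMap_apply]
        | zero => simp
        | add a b _ _ ha hb => simp only [map_add, ha, hb]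
        | smul r a _ ha =>
          rw [LinearMap.map_smul_of_tower, LinearMap.map_smul_of_tower, ← algebraMap_smul R r, map_smul, ha, algebraMap_smul]
    have : Function.Bijective (E₂.toLinearMap ∘ₗ ψ.baseChange R') := by
      rw [key]; exact E₃.bijective.comp E₁.bijective
    exact (Function.Bijective.of_comp_iff' E₂.bijective _).1 this

end Groth.Agent.EtCodim
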